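import Cfsg.Agent.H212.U53.Frame
import Mathlib.GroupTheory.SemidirectProduct

/-!
# Signed permutation matrices of degree four in dimension five (helper212)
-/

set_option autoImplicit false
set_option linter.unusedSectionVars false

namespace Cfsg.Agent.H212.U53

open Matrix

/-- signed permutations -/
abbrev W4 : Type := (Fin 4 → ℤˣ) ⋊[mulAutArrow] Equiv.Perm (Fin 4)

theorem card_W4 : Nat.card W4 = 384 := by
  rw [SemidirectProduct.card, Nat.card_eq_fintype_card, Nat.card_eq_fintype_card, Fintype.card_perm, Fintype.card_fun,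
    Fintype.card_units_int, Fintype.card_fin]
  decide

section

variable {E : Type} [Field E]

/-- the matrix -/
def Nm (w : W4) : Matrix (Fin 4) (Fin 4) E := Matrix.of fun i j => if i = w.right j then (((w.left i : ℤˣ) : ℤ) : E) else 0

theorem Nm_one : Nm (E := E) 1 = 1 := by
  ext i j
  simp [Nm, Matrix.one_apply]

theorem Nm_mul (w w' : W4) : Nm (E := E) (w * w') = Nm w * Nm w' := by
  ext i j
  rw [Matrix.mul_apply, Finset.sum_eq_single (w'.right j)]
  · simp only [Nm, Matrix.of_apply, if_true]
    rw [SemidirectProduct.mul_right, SemidirectProduct.mul_left]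
    by_cases h : i = w.right (w'.right j)
    · subst h
      rw [if_pos rfl, if_pos (Equiv.Perm.mul_apply w.right w'.right j).symm]
      have h1 : (w.left * (mulAutArrow w.right) w'.left) (w.right (w'.right j)) =
          w.left (w.right (w'.right j)) * w'.left (w'.right j) := by
        rw [Pi.mul_apply]
        congr 1
        exact congrArg w'.left ((w.right).symm_apply_apply _)
      rw [h1, Units.val_mul, Int.cast_mul]
    · simp [h]
  · intro k _ hk
    simp [Nm, hk]
  · intro h; exact absurd (Finset.mem_univ _) h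

theorem Nm_transpose (w : W4) : (Nm (E := E) w)ᵀ * Nm w = 1 := by
  ext i j
  rw [Matrix.mul_apply, Finset.sum_eq_single (w.right j)]
  · simp only [Nm, Matrix.of_apply, Matrix.transpose_apply, if_true]
    by_cases h : i = j
    · subst h
      rw [if_pos rfl, Matrix.one_apply_eq, ← Int.cast_mul, ← Units.val_mul, Int.units_mul_self]
      simp
    · rw [if_neg (fun h' => h (w.right.injective h').symm), zero_mul, Matrix.one_apply_ne h]
  · intro k _ hk
    simp [Nm, hk]
  · intro h; exact absurd (Finset.mem_univ _) h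

theorem Nm_map (ρ : E ≃+* E) (w : W4) : (Nm (E := E) w).map ρ = Nm w := by
  ext i j
  simp only [Nm, Matrix.map_apply, Matrix.of_apply]
  split_ifs
  · exact map_intCast ρ _
  · exact map_zero ρ

theorem Nm_injective (h2 : (2 : E) ≠ 0) : Function.Injective (Nm (E := E)) := by
  have hu : ∀ u : ℤˣ, ((u : ℤ) : E) ≠ 0 := by
    intro u
    rcases Int.units_eq_one_or u with rfl | rfl <;> simp
  have hi : ∀ u u' : ℤˣ, ((u : ℤ) : E) = ((u' : ℤ) : E) → u = u' := by
    intro u u' h
    have h1 : (1 : E) ≠ -1 := by
      intro h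
      apply h2
      linear_combination h
    rcases Int.units_eq_one_or u with rfl | rfl <;> rcases Int.units_eq_one_or u' with rfl | rfl
    · rfl
    · exact absurd (by simpa using h) h1
    · exact absurd (by simpa using h.symm) h1
    · rfl
  intro w w' h
  have hr : w.right = w'.right := by
    ext j
    have h3 := congrFun (congrFun h (w.right j)) j
    simp only [Nm, Matrix.of_apply, if_true] at h3
    by_contra hne
    rw [if_neg (fun h4 => hne (by rw [h4]))] at h3
    exact hu _ h3
  refine SemidirectProduct.ext ?_ hr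
  funext i
  have h3 := congrFun (congrFun h i) (w.right⁻¹ i)
  simp only [Nm, Matrix.of_apply] at h3
  rw [if_pos (by simp), if_pos (by rw [← hr]; simp)] at h3
  exact hi _ _ h3

/-- the block matrix -/
def MM (N : Matrix (Fin 4) (Fin 4) E) : Matrix (Fin 5) (Fin 5) E :=
  Matrix.of (Fin.cons (Fin.cons N.det 0) fun i => Fin.cons 0 (N i))

variable (N N' : Matrix (Fin 4) (Fin 4) E)

@[simp] theorem MM_00 : MM N 0 0 = N.det := rfl
@[simp] theorem MM_0s (j : Fin 4) : MM N 0 j.succ = 0 := rfl
@[simp] theorem MM_s0 (i : Fin 4) : MM N i.succ 0 = 0 := rfl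
@[simp] theorem MM_ss (i j : Fin 4) : MM N i.succ j.succ = N i j := rfl

theorem ext5 {A B : Matrix (Fin 5) (Fin 5) E} (h00 : A 0 0 = B 0 0) (h0s : ∀ j : Fin 4, A 0 j.succ = B 0 j.succ)
    (hs0 : ∀ i : Fin 4, A i.succ 0 = B i.succ 0) (hss : ∀ i j : Fin 4, A i.succ j.succ = B i.succ j.succ) : A = B := by
  ext i j
  refine Fin.cases ?_ (fun i => ?_) i
  · exact Fin.cases h00 h0s j
  · exact Fin.cases (hs0 i) (hss i) j

theorem MM_mul : MM (N * N') = MM N * MM N' := by
  apply ext5
  · rw [Matrix.mul_apply, Fin.sum_univ_succ]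
    simp [Matrix.det_mul]
  · intro j
    rw [Matrix.mul_apply, Fin.sum_univ_succ]
    simp
  · intro i
    rw [Matrix.mul_apply, Fin.sum_univ_succ]
    simp
  · intro i j
    rw [Matrix.mul_apply, Fin.sum_univ_succ]
    simp [Matrix.mul_apply]

theorem MM_one : MM (1 : Matrix (Fin 4) (Fin 4) E) = 1 := by
  apply ext5
  · simp
  · intro j
    rw [Matrix.one_apply_ne (Fin.succ_ne_zero j).symm]
    simp
  · intro i
    rw [Matrix.one_apply_ne (Fin.succ_ne_zero i)]
    simp
  · intro i j
    simp [Matrix.one_apply]

theorem MM_transpose : (MM N)ᵀ = MM Nᵀ := by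
  apply ext5
  · simp
  · intro j; simp
  · intro i; simp
  · intro i j; simp

theorem MM_map (ρ : E ≃+* E) : (MM N).map ρ = MM (N.map ρ) := by
  apply ext5
  · simp only [Matrix.map_apply, MM_00]
    exact (ρ : E →+* E).map_det N
  · intro j; simp
  · intro i; simp
  · intro i j; simp

theorem MM_det (hN : N.det * N.det = 1) : (MM N).det = 1 := by
  rw [Matrix.det_succ_row_zero, Fin.sum_univ_succ]
  have h1 : (MM N).submatrix Fin.succ (Fin.succAbove 0) = N := by
    ext i j
    simp
  rw [h1]
  simp [hN]

theorem MM_comm (d : E) : Matrix.diagonal (Fin.cons d fun _ => 1) * MM N = MM N * Matrix.diagonal (Fin.cons d fun _ => 1) := by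
  apply ext5
  · simp [Matrix.diagonal_mul, Matrix.mul_diagonal, mul_comm]
  · intro j; simp [Matrix.diagonal_mul, Matrix.mul_diagonal]
  · intro i; simp [Matrix.diagonal_mul, Matrix.mul_diagonal]
  · intro i j; simp [Matrix.diagonal_mul, Matrix.mul_diagonal]

theorem MM_injective : Function.Injective (MM (E := E)) := by
  intro N N' h
  ext i j
  rw [← MM_ss N, h, MM_ss]

end

end Cfsg.Agent.H212.U53
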