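import Cfsg.Agent.H212.U53.Lin
import Cfsg.Agent.H212.U53.Sgn
import Cfsg.Agent.H294.UFix
import Cfsg.Agent.H294.ClRow

/-!
# S3138: the involutory automorphisms of `U₅(3)` (helper212)

`u5_fix` : an involutory automorphism `α` of `U₅(3)` as in `H293.Cfg` with `|A| = 25920` is outer and its
fixed subgroup has order divisible by 128.
-/

set_option autoImplicit false
set_option linter.unusedSectionVars false

namespace Cfsg.Agent.H212.U53

open Matrix Subgroup Cfsg
open Cfsg.Agent.LieClassical.HermBasic Cfsg.Agent.LieClassical.HermSiegel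
open Cfsg.Agent.ClassicalGeometry.PSUAutCount (gm semiConj toAut gm_mul gm_one gm_mul_inv gm_inv_mul eq_of_toAut_eq
  herm_gm gm_inj)
open Cfsg.Agent.ClassicalGeometry.UnitAutBasic (pr pr_surjective)
open Cfsg.Agent.Schreier.PSU (mapGU f₁ f₂)
open Cfsg.Agent.CpAutU.Desc (toAut_mul toAut_one gm_mapGU')

universe v

/-- field automorphisms are powers of the Frobenius -/
theorem exists_frob {F : Type} [Field F] [Finite F] {p : ℕ} [Fact p.Prime] [CharP F p] (τ : F ≃+* F) :
    ∃ j : ℕ, ∀ x : F, τ x = x ^ p ^ j := by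
  let _ : Algebra (ZMod p) F := ZMod.algebra F p
  have hcomm : (τ : F →+* F).comp (algebraMap (ZMod p) F) = algebraMap (ZMod p) F := Subsingleton.elim _ _
  let τ' : F →ₐ[ZMod p] F := { (τ : F →+* F) with commutes' := fun r => RingHom.congr_fun hcomm r }
  have : Fintype F := Fintype.ofFinite F
  obtain ⟨j, hj⟩ := (FiniteField.bijective_frobeniusAlgHom_pow (ZMod p) F).2 τ'
  refine ⟨j, fun x => ?_⟩
  have h1 : ∀ (n : ℕ) (y : F), ((FiniteField.frobeniusAlgHom (ZMod p) F) ^ n) y = y ^ p ^ n := by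
    intro n y
    induction n generalizing y with
    | zero => simp
    | succ n ih =>
      rw [pow_succ, AlgHom.mul_apply, ih]
      simp [pow_succ, mul_comm, ← pow_mul]
  have h2 : τ' x = τ x := rfl
  rw [← h2, ← hj]
  exact h1 _ x

section

variable {E : Type} [Field E] [Fintype E]

theorem charP_three (hE : Fintype.card E = 9) : CharP E 3 := by
  obtain ⟨p, hp⟩ := CharP.exists E
  have hpp : p.Prime := CharP.char_is_prime E p
  obtain ⟨k, -, hk⟩ := FiniteField.card E p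
  rw [hE] at hk
  have h3 : p ∣ 3 ^ 2 := by
    rw [show (3 : ℕ) ^ 2 = 9 from rfl, hk]
    exact dvd_pow_self p k.ne_zero
  rw [(Nat.prime_dvd_prime_iff_eq hpp Nat.prime_three).1 (hpp.dvd_of_dvd_pow h3)] at hp
  exact hp

/-- the nontrivial automorphism is the cube map -/
theorem rho_eq (hE : Fintype.card E = 9) {ρ : E ≃+* E} (hρ : ρ ≠ 1) (x : E) : ρ x = x ^ 3 := by
  have hc : CharP E 3 := charP_three hE
  have : Fact (Nat.Prime 3) := ⟨Nat.prime_three⟩
  obtain ⟨j, hj⟩ := exists_frob (p := 3) ρ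
  have h9 : ∀ (m : ℕ) (y : E), y ^ 9 ^ m = y := by
    intro m y
    induction m with
    | zero => rw [pow_zero, pow_one]
    | succ m ih =>
      rw [pow_succ, pow_mul, ih]
      have := FiniteField.pow_card y
      rwa [hE] at this
  rcases Nat.even_or_odd j with ⟨m, hm⟩ | ⟨m, hm⟩
  · exfalso
    apply hρ
    ext y
    rw [hj y, hm, ← two_mul, pow_mul]
    exact h9 m y
  · rw [hj x, hm, pow_succ, pow_mul, pow_mul]
    rw [show (3 : ℕ) ^ 2 = 9 from rfl, h9]

/-- **The semilinear involutions**: `384` divides the order of the fixed subgroup -/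
theorem card_fixed (hE : Fintype.card E = 9) {A₀ : GU 5 E 3} {ρ : E ≃+* E} (hρ : ρ ≠ 1)
    (h2 : (toAut A₀ ρ : MulAut (PSU 5 E 3)) * toAut A₀ ρ = 1) :
    384 ∣ Nat.card ↥(fixedSubgroup (toAut A₀ ρ : MulAut (PSU 5 E 3))) := by
  have hF : Fintype.card E = 3 ^ 2 := by rw [hE]; rfl
  have hc3 : CharP E 3 := charP_three hE
  have h2E : (2 : E) ≠ 0 := by
    intro h
    have h3 : ((2 : ℕ) : E) = 0 := by exact_mod_cast h
    rw [CharP.cast_eq_zero_iff E 3] at h3
    omega
  rw [toAut_mul] at h2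
  obtain ⟨hρ2, c, -, hc⟩ := eq_of_toAut_eq (A := 1) (ρ := 1) hF (by norm_num)
    ((toAut_one (F := E) (n := 5) (q := 3)).trans h2.symm)
  obtain ⟨B, hB⟩ : ∃ B, B = gm A₀ := ⟨_, rfl⟩
  obtain ⟨B', hB'⟩ : ∃ B', B' = gm A₀⁻¹ := ⟨_, rfl⟩
  have hBB' : B * B' = 1 := by rw [hB, hB', gm_mul_inv]
  rw [gm_mul, gm_mapGU', gm_one, ← hB] at hc
  have hq : ∀ M : Matrix (Fin 5) (Fin 5) E, H340.ctI 5 hF M = (M.map ρ)ᵀ := by
    intro M
    ext i j
    exact (rho_eq hE hρ _).symm
  have hBu : (B.map ρ)ᵀ * B = 1 := by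
    rw [← hq, hB]
    exact (H340.isom_iff hF _).1 fun u v => herm_gm A₀ u v
  have hρρ : ∀ x, ρ (ρ x) = x := fun x => RingEquiv.congr_fun hρ2 x
  have hmm : ∀ M : Matrix (Fin 5) (Fin 5) E, (M.map ρ).map ρ = M := by
    intro M; ext i j; exact hρρ _
  have hmul : ∀ M N : Matrix (Fin 5) (Fin 5) E, (M * N).map ρ = M.map ρ * N.map ρ := fun M N =>
    Matrix.map_mul (f := (ρ : E →+* E))
  obtain ⟨R, hR⟩ : ∃ R, R = B.map ρ := ⟨_, rfl⟩
  rw [← hR] at hc hBu
  -- `R = c • Rᵀ`
  have hRt : R = c • Rᵀ := by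
    calc R = Rᵀ * B * R := by rw [hBu, one_mul]
      _ = Rᵀ * (c • 1) := by rw [mul_assoc, hc]
      _ = c • Rᵀ := by rw [mul_smul_comm, mul_one]
  have hRt' : Rᵀ = c • R := by
    conv_lhs => rw [hRt]
    rw [Matrix.transpose_smul, Matrix.transpose_transpose]
  have hRdet : R.det ≠ 0 := by
    intro h
    have h3 := congrArg Matrix.det hBu
    rw [Matrix.det_mul, Matrix.det_transpose, h, zero_mul, Matrix.det_one] at h3
    exact zero_ne_one h3
  have hc5 : c ^ 5 = 1 := by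
    have h3 := congrArg Matrix.det hRt
    rw [Matrix.det_smul, Matrix.det_transpose, Fintype.card_fin] at h3
    have h4 : (c ^ 5 - 1) * R.det = 0 := by linear_combination -h3
    exact sub_eq_zero.1 ((mul_eq_zero.1 h4).resolve_right hRdet)
  have hc2 : c * c = 1 := by
    have h3 : R = (c * c) • R := by
      conv_lhs => rw [hRt, hRt']
      rw [smul_smul]
    have h4 := congrArg Matrix.det h3
    rw [Matrix.det_smul, Fintype.card_fin] at h4
    have h5 : ((c * c) ^ 5 - 1) * R.det = 0 := by linear_combination -h4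
    have h6 : (c * c) ^ 5 = 1 := sub_eq_zero.1 ((mul_eq_zero.1 h5).resolve_right hRdet)
    -- some entry of `R` is nonzero
    obtain ⟨i, j, hij⟩ : ∃ i j, R i j ≠ 0 := by
      by_contra hcon
      push Not at hcon
      apply hRdet
      have : R = 0 := by ext i j; exact hcon i j
      rw [this]
      exact Matrix.det_zero
    have h7 := congrFun (congrFun h3 i) j
    rw [Matrix.smul_apply, smul_eq_mul] at h7
    have h8 : (c * c - 1) * R i j = 0 := by linear_combination -h7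
    exact sub_eq_zero.1 ((mul_eq_zero.1 h8).resolve_right hij)
  have hc1 : c = 1 := by
    have : c ^ 5 = c * c * (c * c) * c := by ring
    rw [this, hc2, one_mul, one_mul] at hc5
    exact hc5
  rw [hc1, one_smul] at hRt' hc
  have hBt : Bᵀ = B := by
    have h3 : R.map ρ = B := by rw [hR, hmm]
    rw [← h3, ← Matrix.transpose_map, hRt']
  obtain ⟨D, D', d, hDD', hd, hDB, hDD⟩ := exists_frame (n := 4) hρ2 hρ h2E (by rw [← hR]; exact hc) hBt
  have hD'D : D' * D = 1 := mul_eq_one_comm.1 hDD'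
  have hB'B : B' * B = 1 := mul_eq_one_comm.1 hBB'
  -- the group
  have hNdet : ∀ w : W4, (Nm (E := E) w).det * (Nm (E := E) w).det = 1 := by
    intro w
    have h3 := congrArg Matrix.det (Nm_transpose (E := E) w)
    rwa [Matrix.det_mul, Matrix.det_transpose, Matrix.det_one] at h3
  let G : W4 → Matrix (Fin 5) (Fin 5) E := fun w => D * MM (Nm w) * D'
  have hGdef : ∀ w, G w = D * MM (Nm w) * D' := fun _ => rfl
  have hGmul : ∀ w w', G (w * w') = G w * G w' := by
    intro w w'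
    rw [hGdef, hGdef, hGdef, Nm_mul, MM_mul]
    calc D * (MM (Nm w) * MM (Nm w')) * D' = D * MM (Nm w) * 1 * MM (Nm w') * D' := by
          rw [mul_one]; simp only [mul_assoc]
      _ = D * MM (Nm w) * (D' * D) * MM (Nm w') * D' := by rw [hD'D]
      _ = _ := by simp only [mul_assoc]
  have hGone : G 1 = 1 := by rw [hGdef, Nm_one, MM_one, mul_one, hDD']
  have hGdet : ∀ w, (G w).det = 1 := by
    intro w
    rw [hGdef, Matrix.det_mul, Matrix.det_mul, MM_det _ (hNdet w), mul_one, ← Matrix.det_mul, hDD', Matrix.det_one]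
  have hGρ : ∀ w, (G w).map ρ = D.map ρ * MM (Nm w) * D'.map ρ := by
    intro w
    rw [hGdef, hmul, hmul, MM_map, Nm_map]
  have hDρ : D.map ρ * D'.map ρ = 1 := by
    rw [← hmul, hDD']
    ext i j
    rw [Matrix.map_apply, Matrix.one_apply]
    split_ifs
    · exact map_one ρ
    · exact map_zero ρ
  have hDDt : (D.map ρ)ᵀ * D = Matrix.diagonal (Fin.cons d fun _ => 1) := by
    have h3 := congrArg Matrix.transpose hDD
    rw [Matrix.transpose_mul, Matrix.transpose_transpose, Matrix.diagonal_transpose] at h3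
    exact h3
  have hGu : ∀ w, ((G w).map ρ)ᵀ * G w = 1 := by
    intro w
    rw [hGρ, hGdef, Matrix.transpose_mul, Matrix.transpose_mul]
    calc (D'.map ρ)ᵀ * ((MM (Nm w))ᵀ * (D.map ρ)ᵀ) * (D * MM (Nm w) * D') =
        (D'.map ρ)ᵀ * ((MM (Nm w))ᵀ * ((D.map ρ)ᵀ * D * MM (Nm w))) * D' := by simp only [mul_assoc]
      _ = (D'.map ρ)ᵀ * ((MM (Nm w))ᵀ * MM (Nm w) * ((D.map ρ)ᵀ * D)) * D' := by
        rw [hDDt, MM_comm]
        simp only [mul_assoc]
      _ = (D'.map ρ)ᵀ * ((D.map ρ)ᵀ * D) * D' := by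
        rw [MM_transpose, ← MM_mul, Nm_transpose, MM_one, one_mul]
      _ = ((D.map ρ) * (D'.map ρ))ᵀ * (D * D') := by
        rw [Matrix.transpose_mul]
        simp only [mul_assoc]
      _ = 1 := by rw [hDρ, hDD', Matrix.transpose_one, mul_one]
  have hD'B' : D'.map ρ * B' = D' := by
    calc D'.map ρ * B' = D' * D * (D'.map ρ * B') := by rw [hD'D, one_mul]
      _ = D' * (B * D.map ρ * (D'.map ρ * B')) := by rw [hDB]; simp only [mul_assoc]
      _ = D' * (B * (D.map ρ * D'.map ρ) * B') := by simp only [mul_assoc]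
      _ = D' := by rw [hDρ, mul_one, hBB', mul_one]
  have hGfix : ∀ w, B * (G w).map ρ * B' = G w := by
    intro w
    rw [hGρ, hGdef]
    calc B * (D.map ρ * MM (Nm w) * D'.map ρ) * B' = B * D.map ρ * MM (Nm w) * (D'.map ρ * B') := by
          simp only [mul_assoc]
      _ = _ := by rw [hDB, hD'B']
  let g : W4 → SU 5 E 3 := fun w => mkSU (G w) (hGdet w) ((H340.isom_iff hF _).2 (by rw [hq]; exact hGu w))
  have hg : ∀ w, mat (g w) = G w := fun _ => rfl
  let Φ : W4 →* SU 5 E 3 :=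
    { toFun := g
      map_one' := mat_injective (by rw [hg, hGone]; rfl)
      map_mul' := fun w w' => mat_injective (by
        show mat (g (w * w')) = mat (g w) * mat (g w')
        rw [hg, hg, hg, hGmul]) }
  have hΦfix : ∀ w, pr 5 E 3 (Φ w) ∈ fixedSubgroup (toAut A₀ ρ : MulAut (PSU 5 E 3)) := by
    intro w
    show toAut A₀ ρ (pr 5 E 3 (Φ w)) = pr 5 E 3 (Φ w)
    show pr 5 E 3 (semiConj A₀ ρ (Φ w)) = _
    congr 1
    apply mat_injective
    show gm A₀ * (mat (g w)).map ρ * gm A₀⁻¹ = mat (g w)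
    rw [hg, ← hB, ← hB', hGfix]
  let Ψ : W4 →* ↥(fixedSubgroup (toAut A₀ ρ : MulAut (PSU 5 E 3))) :=
    ((pr 5 E 3).comp Φ).codRestrict _ hΦfix
  have hΨ : Function.Injective Ψ := by
    intro w w' h
    have h3 : pr 5 E 3 (Φ w) = pr 5 E 3 (Φ w') := congrArg Subtype.val h
    have h4 : Φ w = Φ w' := H294.UFix.pr_injective hF rfl (by norm_num) h3
    have h5 : G w = G w' := congrArg mat h4
    apply Nm_injective h2E
    apply MM_injective
    calc MM (Nm w) = D' * D * MM (Nm w) * (D' * D) := by rw [hD'D, one_mul, mul_one]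
      _ = D' * G w * D := by rw [hGdef]; simp only [mul_assoc]
      _ = D' * G w' * D := by rw [h5]
      _ = D' * D * MM (Nm w') * (D' * D) := by rw [hGdef]; simp only [mul_assoc]
      _ = _ := by rw [hD'D, one_mul, mul_one]
  have := Subgroup.card_dvd_of_injective Ψ hΨ
  rwa [card_W4] at this

/-- semilinear automorphisms are outer -/
theorem ne_conj (hE : Fintype.card E = 9) {A₀ : GU 5 E 3} {ρ : E ≃+* E} (hρ : ρ ≠ 1) (x : PSU 5 E 3) :
    toAut A₀ ρ ≠ MulAut.conj x := by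
  have hF : Fintype.card E = 3 ^ 2 := by rw [hE]; rfl
  intro h
  obtain ⟨m, rfl⟩ := pr_surjective x
  let A1 : GU 5 E 3 := ⟨(Matrix.SpecialLinearGroup.toGL) m.1, m.2⟩
  have h3 : toAut A1 1 = MulAut.conj (pr 5 E 3 m) := Cfsg.Agent.Schreier.PSU.f₁_eq_conj A1 m rfl
  exact hρ (eq_of_toAut_eq hF (by norm_num) (h3.trans h.symm)).1

theorem u5_fix_zero (hE : Fintype.card E = 9) {α : MulAut (PSU 5 E 3)} {A : Subgroup (PSU 5 E 3)}
    (h : Cfsg.Agent.H293.Cfg α A) (hZ : center ↥A = ⊥) (hA : Nat.card ↥A = 25920) :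
    128 ∣ Nat.card ↥(fixedSubgroup α) ∧ ∀ x, α ≠ MulAut.conj x := by
  obtain ⟨A₀, ρ, rfl⟩ := ClassicalGeometry.PSUAutMain.exists_toAut (F := E) (n := 5) (q := 3) (by rw [hE]; rfl)
    (by norm_num) (by norm_num) α
  have hρ : ρ ≠ 1 := rho_ne_one hE h (H294.ClRow.quot_card hZ hA)
  exact ⟨(by norm_num : 128 ∣ 384).trans (card_fixed hE hρ h.sq), ne_conj hE hρ⟩

end

/-- **`U₅(3)`** -/
theorem u5_fix {E : Type v} [Field E] [Fintype E] (hE : Fintype.card E = 9) {α : MulAut (Cfsg.PSU 5 E 3)}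
    {A : Subgroup (Cfsg.PSU 5 E 3)} (h : Cfsg.Agent.H293.Cfg α A) (hZ : Subgroup.center ↥A = ⊥)
    (hA : Nat.card ↥A = 25920) :
    128 ∣ Nat.card ↥(Cfsg.fixedSubgroup α) ∧ ∀ x, α ≠ MulAut.conj x := by
  have : Fact (Nat.Prime 3) := ⟨Nat.prime_three⟩
  let E' : Type := GaloisField 3 2
  have : Fintype E' := Fintype.ofFinite E'
  have hE' : Fintype.card E' = 9 := by
    rw [← Nat.card_eq_fintype_card]
    exact (GaloisField.card 3 2 (by norm_num)).trans (by norm_num)
  let e : Cfsg.PSU 5 E 3 ≃* Cfsg.PSU 5 E' 3 :=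
    LieClassical.FieldTransfer.psuCongr 5 3 (FiniteField.ringEquivOfCardEq (hE.trans hE'.symm))
  obtain ⟨h3, h4⟩ := u5_fix_zero hE' (H294.ClRow.cfg_map e h) (H294.ClRow.center_map e hZ)
    ((H294.ClRow.card_map e A).trans hA)
  constructor
  · have h5 : Nat.card ↥(fixedSubgroup (MulAut.congr e α)) = Nat.card ↥(fixedSubgroup α) := by
      refine (Nat.card_congr (e.toEquiv.subtypeEquiv fun x => ?_)).symm
      exact (H294.ClRow.mem_fix e).symm
    rwa [h5] at h3
  · intro x hx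
    refine h4 (e x) ?_
    rw [hx]
    ext y
    show e (x * e.symm y * x⁻¹) = e x * y * (e x)⁻¹
    rw [map_mul, map_mul, map_inv, e.apply_symm_apply]

end Cfsg.Agent.H212.U53
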