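import Cfsg.Agent.CpAut.Descent
import Cfsg.Agent.ClassicalGeometry.DiagNormal

/-!
# A frame for a symmetric matrix `B` with `B * ρ(B) = 1`, and signed permutation matrices (helper212)
-/

set_option autoImplicit false

namespace Cfsg.Agent.H212.U53

open Matrix Cfsg.Agent.CpAut.Descent

section frame

variable {E : Type} [Field E] [Finite E] {n : ℕ}

/-- a symmetric matrix whose quadratic form is diagonal -/
theorem eq_diagonal {K : Type*} [Field K] (h2 : (2 : K) ≠ 0) {m : ℕ} {M : Matrix (Fin m) (Fin m) K} (hM : Mᵀ = M)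
    {w : Fin m → K} (h : ∀ v : Fin m → K, v ⬝ᵥ M *ᵥ v = ∑ i, w i * v i ^ 2) : M = Matrix.diagonal w := by
  have hs : ∀ i j, M j i = M i j := fun i j => congrFun (congrFun hM i) j
  have hd : ∀ i, M i i = w i := by
    intro i
    have h1 := h (Pi.single i 1)
    rw [Matrix.mulVec_single_one, single_one_dotProduct, Matrix.col_apply] at h1
    rw [h1, Finset.sum_eq_single i]
    · rw [Pi.single_eq_same]; ring
    · intro j _ hj
      rw [Pi.single_eq_of_ne hj]; ring
    · intro h; exact absurd (Finset.mem_univ _) h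
  ext i j
  by_cases hij : i = j
  · subst hij
    rw [Matrix.diagonal_apply_eq, hd]
  · rw [Matrix.diagonal_apply_ne _ hij]
    have h1 := h (Pi.single i 1 + Pi.single j 1)
    rw [Matrix.mulVec_add, add_dotProduct, dotProduct_add, dotProduct_add, Matrix.mulVec_single_one,
      Matrix.mulVec_single_one, single_one_dotProduct, single_one_dotProduct, single_one_dotProduct,
      single_one_dotProduct, Matrix.col_apply, Matrix.col_apply, Matrix.col_apply, Matrix.col_apply] at h1
    have h3 : ∑ k, w k * (Pi.single i 1 + Pi.single j 1 : Fin m → K) k ^ 2 = w i + w j := by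
      rw [← Finset.sum_subset (Finset.subset_univ {i, j}), Finset.sum_pair hij]
      · simp [hij, Ne.symm hij]
      · intro k _ hk
        rw [Finset.mem_insert, Finset.mem_singleton, not_or] at hk
        simp [hk.1, hk.2]
    rw [h3, hd, hd, hs i j] at h1
    have h4 : 2 * M i j = 0 := by linear_combination h1
    exact (mul_eq_zero.1 h4).resolve_left h2

theorem exists_frame {ρ : E ≃+* E} (hρ2 : ρ * ρ = 1) (hρ : ρ ≠ 1) (h2 : (2 : E) ≠ 0)
    {B : Matrix (Fin (n + 1)) (Fin (n + 1)) E} (hB : B * B.map ρ = 1) (hBt : Bᵀ = B) :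
    ∃ (D D' : Matrix (Fin (n + 1)) (Fin (n + 1)) E) (d : E), D * D' = 1 ∧ d ≠ 0 ∧ B * D.map ρ = D ∧
      Dᵀ * D.map ρ = Matrix.diagonal (Fin.cons d fun _ => 1) := by
  have hρρ : ∀ x, ρ (ρ x) = x := fun x => RingEquiv.congr_fun hρ2 x
  have hmm : ∀ M : Matrix (Fin (n + 1)) (Fin (n + 1)) E, (M.map ρ).map ρ = M := by
    intro M; ext i j; exact hρρ _
  have hmul : ∀ M N : Matrix (Fin (n + 1)) (Fin (n + 1)) E, (M * N).map ρ = M.map ρ * N.map ρ := by
    intro M N
    exact Matrix.map_mul (f := (ρ : E →+* E))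
  have hvec : ∀ (M : Matrix (Fin (n + 1)) (Fin (n + 1)) E) (v : Fin (n + 1) → E),
      (fun i => ρ ((M *ᵥ v) i)) = M.map ρ *ᵥ fun i => ρ (v i) := by
    intro M v
    ext i
    simp [Matrix.mulVec, dotProduct]
  let gf : (Fin (n + 1) → E) → (Fin (n + 1) → E) := fun v => B *ᵥ fun i => ρ (v i)
  have hgg : ∀ v, gf (gf v) = v := by
    intro v
    show B *ᵥ (fun i => ρ ((B *ᵥ fun i => ρ (v i)) i)) = v
    rw [hvec, Matrix.mulVec_mulVec, hB, Matrix.one_mulVec]
    ext i
    exact hρρ _
  let g : Equiv.Perm (Fin (n + 1) → E) := ⟨gf, gf, hgg, hgg⟩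
  have hg : Semi g ρ := by
    refine ⟨fun u v => ?_, fun a v => ?_⟩
    · show B *ᵥ (fun i => ρ ((u + v) i)) = B *ᵥ (fun i => ρ (u i)) + B *ᵥ (fun i => ρ (v i))
      rw [← Matrix.mulVec_add]
      congr 1
      ext i
      exact map_add ρ _ _
    · show B *ᵥ (fun i => ρ ((a • v) i)) = ρ a • B *ᵥ (fun i => ρ (v i))
      rw [← Matrix.mulVec_smul]
      congr 1
      ext i
      exact map_mul ρ _ _
  have ho : orderOf ρ = 2 := orderOf_eq_prime (by rw [pow_two, hρ2]) hρ
  have hg2 : g ^ 2 = 1 := by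
    ext v i
    rw [pow_two]
    exact congrFun (hgg v) i
  obtain ⟨b, hb⟩ := exists_basis (ι := Fin (n + 1)) hg ho (by norm_num) hg2 (by simp)
  let D₀ : Matrix (Fin (n + 1)) (Fin (n + 1)) E := (Pi.basisFun E (Fin (n + 1))).toMatrix b
  let D₀' : Matrix (Fin (n + 1)) (Fin (n + 1)) E := b.toMatrix (Pi.basisFun E (Fin (n + 1)))
  have hD₀ : D₀ * D₀' = 1 := Module.Basis.toMatrix_mul_toMatrix_flip _ _
  have hD₀a : ∀ i j, D₀ i j = b j i := fun i j => rfl
  have hD₀B : B * D₀.map ρ = D₀ := by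
    ext i j
    have h1 := congrFun (hb j) i
    exact h1
  -- the Gram matrix
  obtain ⟨S, hS⟩ : ∃ S, S = D₀ᵀ * D₀.map ρ := ⟨_, rfl⟩
  have hB' : B.map ρ * B = 1 := mul_eq_one_comm.1 hB
  have hR : D₀.map ρ = B.map ρ * D₀ := by
    calc D₀.map ρ = B.map ρ * B * D₀.map ρ := by rw [hB', one_mul]
      _ = B.map ρ * D₀ := by rw [mul_assoc, hD₀B]
  have hSt : Sᵀ = S := by
    rw [hS, hR, Matrix.transpose_mul, Matrix.transpose_mul, Matrix.transpose_transpose, ← mul_assoc]
    congr 2
    rw [← Matrix.transpose_map, hBt]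
  have hSρ : S.map ρ = S := by
    rw [hS, hmul, hmm, Matrix.transpose_map]
    conv_rhs => rw [← hS, ← hSt, hS, Matrix.transpose_mul, Matrix.transpose_transpose]
  -- the fixed field
  let k : Subfield E := RingHom.eqLocusField (ρ : E →+* E) (RingHom.id E)
  have hk : ∀ x : E, x ∈ k ↔ ρ x = x := fun x => Iff.rfl
  let S₀ : Matrix (Fin (n + 1)) (Fin (n + 1)) k := Matrix.of fun i j => ⟨S i j, (hk _).2 (congrFun (congrFun hSρ i) j)⟩
  have hS₀ : S₀.map k.subtype = S := by ext i j; rfl
  have hS₀t : S₀ᵀ = S₀ := by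
    ext i j
    exact congrArg (fun M : Matrix _ _ E => M i j) hSt
  have h2k : (2 : k) ≠ 0 := by
    intro h
    apply h2
    have h3 : k.subtype (2 : k) = k.subtype 0 := congrArg (k.subtype) h
    rwa [map_ofNat, map_zero] at h3
  have hdetS : S.det ≠ 0 := by
    have h1 : D₀.det ≠ 0 := by
      intro h
      have h3 := congrArg Matrix.det hD₀
      rw [Matrix.det_mul, h, zero_mul, Matrix.det_one] at h3
      exact zero_ne_one h3
    rw [hS, Matrix.det_mul, Matrix.det_transpose]
    have h3 : (D₀.map ρ).det = ρ D₀.det := ((ρ : E →+* E).map_det D₀).symm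
    rw [h3]
    exact mul_ne_zero h1 (by rwa [Ne, map_eq_zero_iff ρ ρ.injective])
  have hdetS₀ : S₀.det ≠ 0 := by
    intro h
    apply hdetS
    rw [← hS₀]
    have h3 : (S₀.map k.subtype).det = k.subtype S₀.det := ((k.subtype).map_det S₀).symm
    rw [h3, h, map_zero]
  let Bf : LinearMap.BilinForm k (Fin (n + 1) → k) := Matrix.toBilin' S₀
  have hBf : ∀ v w, Bf v w = v ⬝ᵥ S₀ *ᵥ w := fun v w => by
    show Matrix.toBilin' S₀ v w = _
    rw [Matrix.toBilin'_apply']
  have hBfs : ∀ v w, Bf v w = Bf w v := by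
    intro v w
    rw [hBf, hBf, Matrix.dotProduct_mulVec, ← Matrix.mulVec_transpose, hS₀t, dotProduct_comm]
  have hnd : (QuadraticMap.polarBilin (LinearMap.BilinMap.toQuadraticMap Bf)).Nondegenerate := by
    have hsl : ∀ v, (∀ w, (QuadraticMap.polarBilin (LinearMap.BilinMap.toQuadraticMap Bf)) v w = 0) → v = 0 := by
      intro v hv
      have h3 : S₀ *ᵥ v = 0 := by
        ext i
        have h4 := hv (Pi.single i 1)
        rw [LinearMap.BilinMap.polarBilin_toQuadraticMap, LinearMap.add_apply, LinearMap.add_apply, LinearMap.flip_apply,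
          hBfs v, ← two_mul, hBf, single_one_dotProduct] at h4
        exact congrArg Subtype.val ((mul_eq_zero.1 h4).resolve_left h2k)
      exact Matrix.eq_zero_of_mulVec_eq_zero hdetS₀ h3
    have hsym : ∀ v w, (QuadraticMap.polarBilin (LinearMap.BilinMap.toQuadraticMap Bf)) v w =
        (QuadraticMap.polarBilin (LinearMap.BilinMap.toQuadraticMap Bf)) w v := by
      intro v w
      rw [LinearMap.BilinMap.polarBilin_toQuadraticMap]
      simp only [LinearMap.add_apply, LinearMap.flip_apply]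
      rw [add_comm]
    exact ⟨hsl, fun v hv => hsl v fun w => by rw [hsym]; exact hv w⟩
  obtain ⟨γ, d, hd, hγ⟩ := Cfsg.Agent.ClassicalGeometry.DiagNormal.exists_normal_form h2k _ hnd
  let P : Matrix (Fin (n + 1)) (Fin (n + 1)) k := LinearMap.toMatrix' (γ : (Fin (n + 1) → k) →ₗ[k] _)
  let P' : Matrix (Fin (n + 1)) (Fin (n + 1)) k := LinearMap.toMatrix' (γ.symm : (Fin (n + 1) → k) →ₗ[k] _)
  have hPv : ∀ v, P *ᵥ v = γ v := fun v => LinearMap.toMatrix'_mulVec _ _
  have hPP : P * P' = 1 := by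
    show LinearMap.toMatrix' _ * LinearMap.toMatrix' _ = 1
    rw [← LinearMap.toMatrix'_mul, ← LinearMap.toMatrix'_one]
    congr 1
    ext v i
    simp
  have hM : Pᵀ * S₀ * P = Matrix.diagonal (Fin.cons d fun _ => 1) := by
    refine eq_diagonal h2k ?_ fun v => ?_
    · rw [Matrix.transpose_mul, Matrix.transpose_mul, Matrix.transpose_transpose, hS₀t, mul_assoc]
    · have h3 := hγ v
      rw [LinearMap.BilinMap.toQuadraticMap_apply, hBf, ← hPv] at h3
      rw [Fin.sum_univ_succ]
      simp only [Fin.cons_zero, Fin.cons_succ, one_mul]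
      rw [← h3, Matrix.dotProduct_mulVec v, ← Matrix.vecMul_vecMul, ← Matrix.vecMul_vecMul, Matrix.vecMul_transpose,
        ← Matrix.dotProduct_mulVec, ← Matrix.dotProduct_mulVec]
  have hρk : ∀ M : Matrix (Fin (n + 1)) (Fin (n + 1)) k, (M.map k.subtype).map ρ = M.map k.subtype := by
    intro M; ext i j; exact (M i j).2
  have hkm : ∀ M N : Matrix (Fin (n + 1)) (Fin (n + 1)) k, (M * N).map k.subtype = M.map k.subtype * N.map k.subtype :=
    fun M N => Matrix.map_mul
  refine ⟨D₀ * P.map k.subtype, P'.map k.subtype * D₀', (d : E), ?_, ?_, ?_, ?_⟩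
  · calc D₀ * P.map k.subtype * (P'.map k.subtype * D₀') = D₀ * (P.map k.subtype * P'.map k.subtype) * D₀' := by
          simp only [mul_assoc]
      _ = D₀ * D₀' := by
          rw [← hkm, hPP]
          congr 1
          have : (1 : Matrix (Fin (n + 1)) (Fin (n + 1)) k).map k.subtype = 1 := by
            ext i j
            simp [Matrix.one_apply, apply_ite]
          rw [this, mul_one]
      _ = 1 := hD₀
  · intro h
    exact hd (Subtype.ext h)
  · rw [hmul, hρk, ← mul_assoc, hD₀B]
  · rw [hmul, hρk, Matrix.transpose_mul]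
    calc (P.map k.subtype)ᵀ * D₀ᵀ * (D₀.map ρ * P.map k.subtype) =
        (P.map k.subtype)ᵀ * (D₀ᵀ * D₀.map ρ) * P.map k.subtype := by simp only [mul_assoc]
      _ = (Pᵀ * S₀ * P).map k.subtype := by rw [← hS, ← hS₀, hkm, hkm, Matrix.transpose_map]
      _ = _ := by
        rw [hM]
        ext i j
        rw [Matrix.map_apply]
        by_cases hij : i = j
        · subst hij
          rw [Matrix.diagonal_apply_eq, Matrix.diagonal_apply_eq]
          refine Fin.cases ?_ (fun i => ?_) i
          · rfl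
          · simp only [Fin.cons_succ, map_one]
        · rw [Matrix.diagonal_apply_ne _ hij, Matrix.diagonal_apply_ne _ hij, map_zero]

end frame

end Cfsg.Agent.H212.U53
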