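import Cfsg.Agent.H294.CFRows
import Cfsg.Agent.H294.CFBase
import Cfsg.Agent.H294.ClSymp

/-!
# S3138: linear involutory automorphisms of `U₅(3)` (helper212)

`cf_psu_lin` : `H294.CFRows.cf_psu` for a linear automorphism, without conditions on the semilinear pieces;
`rho_ne_one` : an automorphism as in `H293.Cfg` with `|A| = 25920` is not linear.
-/

set_option autoImplicit false
set_option linter.unusedSectionVars false

namespace Cfsg.Agent.H212.U53

open Subgroup Cfsg Cfsg.Agent.BpLin Cfsg.Agent.H340 Matrix Cfsg.Agent.H294.CFR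
open Cfsg.Agent.LieClassical.HermBasic Cfsg.Agent.LieClassical.HermSiegel
open Cfsg.Agent.ClassicalGeometry.PSUAutCount (gm semiConj toAut gm_mul gm_one gm_mul_inv gm_inv_mul eq_of_toAut_eq
  sc gm_sc_mul toAut_sc_mul herm_gm act_semiConj herm_semi gm_mulVec_inv gm_inv_mulVec gm_inj)
open Cfsg.Agent.Schreier.PSU (f₁ f₂ toAut_eq mapGU conj_field toAut_pr' gm_mapGU)
open Cfsg.Agent.CpAutU.Desc (toAut_mul toAut_one gm_mapGU')

universe u

variable {P : ∀ (S : Type u) [Group S], Prop} {r : ℕ} {okL ok : ℕ → ℕ → Prop} {F : Type} [Field F] [Fintype F]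
  [CharP F r] {n q : ℕ}

/-- **`PSU_n(q)`, odd characteristic, linear automorphisms.** -/
theorem cf_psu_lin (hr : r.Prime) (hr2 : r ≠ 2) (hB : BaseR r okL ok P) (hF : Fintype.card F = q ^ 2) (hn : 3 ≤ n)
    (hokL1 : ∀ a d, q ^ 2 ≤ a → okL a d) (hok1 : ∀ a d, q ^ 2 ≤ a → ok a d)
    (A : GU n F q) (h2 : (toAut A 1 : MulAut (PSU n F q)) * toAut A 1 = 1) :
    CF P ↥(fixedSubgroup (toAut A 1 : MulAut (PSU n F q))) := by
  have hNZ : NeZero n := ⟨by omega⟩
  have hne : Nonempty (Fin n) := ⟨⟨0, by omega⟩⟩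
  rw [toAut_mul] at h2
  obtain ⟨hρ, c, -, hc⟩ := eq_of_toAut_eq (A := 1) (ρ := 1) hF hn ((toAut_one (F := F) (n := n) (q := q)).trans h2.symm)
  obtain ⟨B, hB'⟩ : ∃ B : GL (Fin n) F, B = (A : GL (Fin n) F) := ⟨_, rfl⟩
  have hBc : scalar (Fin n) c = ((B * mg (1 : F ≃+* F) B : GL (Fin n) F) : Matrix (Fin n) (Fin n) F) := by
    rw [hB']
    change _ = gm (A * mapGU (1 : F ≃+* F) A)
    rw [hc, gm_one, Matrix.scalar_apply, ← Matrix.smul_one_eq_diagonal]
  have hτ : ∀ T, semi B (1 : F ≃+* F) (semi B (1 : F ≃+* F) T) = T := semi_semi hBc hρ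
  let s := ctI n hF
  have hBU : B ∈ s.U := (mem_ctU hF B).2 (by rw [hB']; exact fun u v => herm_gm A u v)
  have hBs : s (B : Matrix (Fin n) (Fin n) F) = ((B⁻¹ : GL (Fin n) F) : Matrix (Fin n) (Fin n) F) := by
    have h3 : (B : Matrix (Fin n) (Fin n) F) * s (B : Matrix (Fin n) (Fin n) F) = 1 := hBU
    rw [← Units.mul_right_inj B, h3, Units.mul_inv]
  have hBs' : s ((B⁻¹ : GL (Fin n) F) : Matrix (Fin n) (Fin n) F) = (B : Matrix (Fin n) (Fin n) F) := by
    rw [← hBs, s.inv]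
  have hs : ∀ T, semi B (1 : F ≃+* F) (s T) = s (semi B (1 : F ≃+* F) T) := by
    intro T
    rw [semi_apply, semi_apply, s.mul, s.mul, hBs, hBs', ← mul_assoc]
    congr 2
  have key : ∀ {ok' : ℕ → ℕ → Prop}, (∀ a d, q ^ 2 ≤ a → ok' a d) → OkRing ok' ↥(fixRing (semi B (1 : F ≃+* F))) := by
    intro ok' k1
    refine okRing_linear (F := F) (fun c => by rw [semi_algebraMap]; rfl) fun a d had => k1 a d ?_
    rwa [Nat.card_eq_fintype_card, hF] at had
  have h4 : CF P ↥(s.U ⊓ fixU (semi B (1 : F ≃+* F))) :=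
    cf_fixUnitary hr hr2 hB (semi B (1 : F ≃+* F)) hτ (key hokL1) (key hok1) s hs
  have hsemi : ∀ m : SU n F q, mat (semiConj A (1 : F ≃+* F) m) = semi B (1 : F ≃+* F) (mat m) := by
    intro m
    rw [hB']
    rfl
  have hfix : ∀ m : SU n F q, semiConj A (1 : F ≃+* F) m = m ↔ semi B (1 : F ≃+* F) (mat m) = mat m :=
    fun m => ⟨fun h => by rw [← hsemi, h], fun h => mat_injective (by rw [hsemi, h])⟩
  let f : SU n F q →* GL (Fin n) F := (Matrix.SpecialLinearGroup.toGL).comp (SU n F q).subtype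
  have hf : ∀ m : SU n F q, (f m : Matrix (Fin n) (Fin n) F) = mat m := fun _ => rfl
  have hfU : ∀ m : SU n F q, f m ∈ s.U := fun m => (mem_ctU hF _).2 m.2
  have h5 : CF P ↥(fixedSubgroup (semiConj A (1 : F ≃+* F) : MulAut (SU n F q))) := by
    refine CF.fixed_of_normal _ f
      (Matrix.SpecialLinearGroup.toGL_injective.comp (SU n F q).subtype_injective) h4
      (fun m hm => ⟨hfU m, (hfix m).1 hm⟩) fun c hc m hm => ?_
    have hcm : c * f m * c⁻¹ ∈ s.U := s.U.mul_mem (s.U.mul_mem hc.1 (hfU m)) (s.U.inv_mem hc.1)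
    have hcf : c * f m * c⁻¹ ∈ fixU (semi B (1 : F ≃+* F)) :=
      Subgroup.mul_mem _ (Subgroup.mul_mem _ hc.2 ((hfix m).1 hm)) (Subgroup.inv_mem _ hc.2)
    have hdet : ((c * f m * c⁻¹ : GL (Fin n) F) : Matrix (Fin n) (Fin n) F).det = 1 := by
      have h6 : ((f m : GL (Fin n) F) : Matrix (Fin n) (Fin n) F).det = 1 := det_mat m
      rw [Units.val_mul, Units.val_mul, Matrix.det_mul, Matrix.det_mul, h6, mul_one, ← Matrix.det_mul,
        ← Units.val_mul, mul_inv_cancel, Units.val_one, Matrix.det_one]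
    let m' : SU n F q := ⟨⟨_, hdet⟩, (mem_ctU hF _).1 hcm⟩
    have hm' : mat m' = ((c * f m * c⁻¹ : GL (Fin n) F) : Matrix (Fin n) (Fin n) F) := rfl
    refine ⟨m', (hfix m').2 ?_, ?_⟩
    · rw [hm']
      exact hcf
    · apply Units.ext
      rfl
  exact CF.fixed_of_lift (ClassicalGeometry.UnitAutBasic.pr n F q) ClassicalGeometry.UnitAutBasic.pr_surjective
    (fun x hx => (QuotientGroup.eq_one_iff x).1 hx) (semiConj A (1 : F ≃+* F)) _ (fun m => rfl) h5

/-- **`ρ ≠ 1`** -/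
theorem rho_ne_one {E : Type} [Field E] [Fintype E] (hE : Fintype.card E = 9) {A₀ : GU 5 E 3} {ρ : E ≃+* E}
    {A : Subgroup (PSU 5 E 3)} (h : Cfsg.Agent.H293.Cfg (toAut A₀ ρ) A)
    (hA : Nat.card (↥A ⧸ center ↥A) = 25920) : ρ ≠ 1 := by
  rintro rfl
  have hc3 : CharP E 3 := by
    obtain ⟨p, hp⟩ := CharP.exists E
    have hpp : p.Prime := CharP.char_is_prime E p
    obtain ⟨k, -, hk⟩ := FiniteField.card E p
    rw [hE] at hk
    have h3 : p ∣ 3 ^ 2 := by
      rw [show (3 : ℕ) ^ 2 = 9 from rfl, hk]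
      exact dvd_pow_self p k.ne_zero
    rw [(Nat.prime_dvd_prime_iff_eq hpp Nat.prime_three).1 (hpp.dvd_of_dvd_pow h3)] at hp
    exact hp
  refine Cfsg.Agent.H294.ClSymp.not_cf h hA ?_
  refine cf_psu_lin Nat.prime_three (by norm_num) base_B (q := 3) (by rw [hE]; rfl) (by norm_num)
    (fun _ _ _ => trivial) ?_ A₀ h.sq
  rintro a d ha ⟨rfl, -⟩
  omega

end Cfsg.Agent.H212.U53
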